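import Cfsg.Agent.Mrg.Omega.F4Leaf.Fac
import Cfsg.Agent.Mrg.Omega.NSix.TLg
import Cfsg.Agent.Mrg.Omega.NO3S.Fit.PlaneAct


/-!
# LeafF4, any `V₀`, `m ≥ 2`: `Ω₁(Z(O₂(P))) = V` (helper223, #20220; `V₀ = 1` : #16105)

* `mem_o2` (LEMMA T): `W`, `Z` normalised by `N`, `Z` a 2-group, `C_N(W) ≤ L`; an involution `y ∈ N ∩ O₂(L)` with
  `[y, Z] = 1`, `[y, W] ≤ Z` lies in `O₂(N)`.
* `Sit.big` : the structure `App.Big` for `Y = Ω₁(Z(O₂(P)))`;
* `Sit.omega_le` : `Ω₁(Z(O₂(P))) ≤ O₂(C_G(r_ij))` for all pairs;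
* `Sit.omega_one` : `Ω₁(Z(O₂(P))) = V` if some `WP ε i j` moves `A` (type `T`);
* `Sit.zc_le` : `Ω₁(Z(T)) ≤ V` for `O₂(P) ≤ T ≤ S`.
-/

set_option autoImplicit false
set_option linter.dupNamespace false

namespace Cfsg.Agent.Omega.F4Leaf.Big.OneZ

open Subgroup Pointwise Cfsg Cfsg.Agent Cfsg.Agent.Omega.MinPar
open Cfsg.Agent.ZN (o2 zc zl)
open Cfsg.Agent.Omega.FrameFF (cv)
open Cfsg.Agent.Omega.S5.Def Cfsg.Agent.Omega.S5.Syl Cfsg.Agent.Omega.F4Leaf.Def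
open Cfsg.Agent.Omega.F4Leaf.Pos Cfsg.Agent.Omega.F4Leaf.Facts
open Cfsg.Agent.Omega.NSix.Base Cfsg.Agent.Omega.NSix.Basic Cfsg.Agent.Omega.NSix.FixApp
open Cfsg.Agent.Omega.NSix.Zero (WP mem_WP WP_norm WP_conj)
open Cfsg.Agent.Omega.NO3S.Fit (exists_inverted_of_notMem)
open Cfsg.Agent.MinSimple.VModule (o2_isPGroup o2_le le_o2 le_normalizer_o2 o2_le_of_sylow mem_zc zc_le
  le_normalizer_zl zl_comm zl_sq)

universe u

variable {G : Type u} [Group G]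

/-! ### LEMMA T -/

section lemT

/-- the elements of `N` which centralise `Z` and act trivially on `W / Z` -/
def RR (N W Z : Subgroup G) (hW : ∀ g ∈ N, ∀ w ∈ W, g * w * g⁻¹ ∈ W) : Subgroup G where
  carrier := {g | g ∈ N ∧ (∀ z ∈ Z, g * z = z * g) ∧ ∀ w ∈ W, g * w * g⁻¹ * w⁻¹ ∈ Z}
  one_mem' := ⟨one_mem _, fun z _ => by rw [one_mul, mul_one], fun w _ => by
    have e : (1 : G) * w * 1⁻¹ * w⁻¹ = 1 := by group
    rw [e]
    exact one_mem _⟩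
  mul_mem' := by
    rintro a b ⟨ha, ha1, ha2⟩ ⟨hb, hb1, hb2⟩
    refine ⟨mul_mem ha hb, fun z hz => ?_, fun w hw => ?_⟩
    · rw [mul_assoc, hb1 z hz, ← mul_assoc, ha1 z hz, mul_assoc]
    · have h1 := ha2 _ (hW b hb w hw)
      have h2 := hb2 w hw
      have e : a * b * w * (a * b)⁻¹ * w⁻¹ =
          a * (b * w * b⁻¹) * a⁻¹ * (b * w * b⁻¹)⁻¹ * (b * w * b⁻¹ * w⁻¹) := by group
      rw [e]
      exact mul_mem h1 h2
  inv_mem' := by
    rintro a ⟨ha, ha1, ha2⟩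
    refine ⟨inv_mem ha, fun z hz => ?_, fun w hw => ?_⟩
    · have h1 := ha1 z hz
      calc a⁻¹ * z = a⁻¹ * (z * a) * a⁻¹ := by group
        _ = a⁻¹ * (a * z) * a⁻¹ := by rw [h1]
        _ = z * a⁻¹ := by group
    · have h1 := ha2 _ (hW a⁻¹ (inv_mem ha) w hw)
      have e : a⁻¹ * w * a⁻¹⁻¹ * w⁻¹ = (a * (a⁻¹ * w * a⁻¹⁻¹) * a⁻¹ * (a⁻¹ * w * a⁻¹⁻¹)⁻¹)⁻¹ := by group
      rw [e]
      exact inv_mem h1

variable {N W Z : Subgroup G} {hW : ∀ g ∈ N, ∀ w ∈ W, g * w * g⁻¹ ∈ W}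

theorem RR_conj (hZ : ∀ g ∈ N, ∀ z ∈ Z, g * z * g⁻¹ ∈ Z) {g a : G} (hg : g ∈ N) (ha : a ∈ RR N W Z hW) :
    g * a * g⁻¹ ∈ RR N W Z hW := by
  obtain ⟨ha0, ha1, ha2⟩ := ha
  refine ⟨mul_mem (mul_mem hg ha0) (inv_mem hg), fun z hz => ?_, fun w hw => ?_⟩
  · have h1 := ha1 _ (hZ g⁻¹ (inv_mem hg) z hz)
    calc g * a * g⁻¹ * z = g * (a * (g⁻¹ * z * g⁻¹⁻¹)) * g⁻¹ := by group
      _ = g * (g⁻¹ * z * g⁻¹⁻¹ * a) * g⁻¹ := by rw [h1]
      _ = z * (g * a * g⁻¹) := by group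
  · have h1 := hZ g hg _ (ha2 _ (hW g⁻¹ (inv_mem hg) w hw))
    have e : g * a * g⁻¹ * w * (g * a * g⁻¹)⁻¹ * w⁻¹ =
        g * (a * (g⁻¹ * w * g⁻¹⁻¹) * a⁻¹ * (g⁻¹ * w * g⁻¹⁻¹)⁻¹) * g⁻¹ := by group
    rw [e]
    exact h1

/-- an element of odd order is a power of the inverse of its square -/
theorem mem_of_sq {t : G} {n : ℕ} (hn : Odd n) (ht : t ^ n = 1) {H : Subgroup G} (h : t⁻¹ * t⁻¹ ∈ H) : t ∈ H := by
  obtain ⟨k, rfl⟩ := hn
  have e : t = ((t⁻¹ * t⁻¹)⁻¹) ^ (k + 1) := by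
    rw [mul_inv_rev, inv_inv, ← pow_two, ← pow_mul]
    have e1 : 2 * (k + 1) = (2 * k + 1) + 1 := by ring
    rw [e1, pow_succ, ht, one_mul]
  rw [e]
  exact pow_mem (inv_mem h) _

/-- an element of 2-power order and of odd order is trivial -/
theorem eq_one_of_odd {x : G} {n k : ℕ} (hn : Odd n) (h1 : x ^ n = 1) (h2 : x ^ 2 ^ k = 1) : x = 1 := by
  have h3 : orderOf x ∣ n := orderOf_dvd_of_pow_eq_one h1
  have h4 : orderOf x ∣ 2 ^ k := orderOf_dvd_of_pow_eq_one h2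
  have h5 : Nat.Coprime n (2 ^ k) := (Nat.coprime_two_right.mpr hn).pow_right k
  exact orderOf_eq_one_iff.mp (Nat.eq_one_of_dvd_coprimes h5 h3 h4)

/-- **LEMMA T** -/
theorem mem_o2 [Finite G] {N L W Z : Subgroup G} (hW : ∀ g ∈ N, ∀ w ∈ W, g * w * g⁻¹ ∈ W)
    (hZ : ∀ g ∈ N, ∀ z ∈ Z, g * z * g⁻¹ ∈ Z) (hZ2 : IsPGroup 2 Z)
    (hK : ∀ g ∈ N, (∀ w ∈ W, g * w = w * g) → g ∈ L) {y : G} (hy2 : y * y = 1) (hyN : y ∈ N) (hyO : y ∈ o2 L)
    (hyZ : ∀ z ∈ Z, y * z = z * y) (hyW : ∀ w ∈ W, y * w * y⁻¹ * w⁻¹ ∈ Z) : y ∈ o2 N := by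
  by_contra hno
  have hno' : (⟨y, hyN⟩ : N) ∉ pCore 2 N := fun h1 => hno (mem_map_of_mem N.subtype h1)
  obtain ⟨⟨t, htN⟩, ht1, ht2, n, hn, htn⟩ := exists_inverted_of_notMem (Subtype.ext hy2) hno'
  replace ht1 : t ≠ 1 := fun h => ht1 (Subtype.ext h)
  replace ht2 : y * t * y⁻¹ = t⁻¹ := congrArg Subtype.val ht2
  replace htn : t ^ n = 1 := congrArg Subtype.val htn
  have hyR : y ∈ RR N W Z hW := ⟨hyN, hyZ, hyW⟩
  have hsq : t⁻¹ * y * t * y⁻¹ = t⁻¹ * t⁻¹ := by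
    rw [← ht2]
    group
  have htR : t ∈ RR N W Z hW := by
    refine mem_of_sq hn htn ?_
    rw [← hsq]
    have h1 := RR_conj hZ (inv_mem htN) hyR
    rw [inv_inv] at h1
    exact mul_mem h1 (inv_mem hyR)
  have htW : ∀ w ∈ W, t * w = w * t := by
    intro w hw
    have hz := htR.2.2 w hw
    set z := t * w * t⁻¹ * w⁻¹ with hzdef
    have hzt := htR.2.1 z hz
    have key : ∀ k : ℕ, t ^ k * w * (t ^ k)⁻¹ = z ^ k * w := by
      intro k
      induction k with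
      | zero => simp
      | succ k ih =>
        have h1 : t * z ^ k = z ^ k * t := by
          have : Commute t z := hzt
          exact this.pow_right k
        calc t ^ (k + 1) * w * (t ^ (k + 1))⁻¹ = t * (t ^ k * w * (t ^ k)⁻¹) * t⁻¹ := by rw [pow_succ']; group
          _ = t * z ^ k * w * t⁻¹ := by rw [ih]; group
          _ = z ^ k * (t * w * t⁻¹ * w⁻¹) * w := by rw [h1]; group
          _ = z ^ (k + 1) * w := by rw [← hzdef, pow_succ]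
    have h1 := key n
    rw [htn, one_mul, inv_one, mul_one] at h1
    have h2 : z ^ n = 1 := (mul_eq_right.mp h1.symm)
    obtain ⟨k, hk⟩ := hZ2 ⟨z, hz⟩
    have h3 : z = 1 := eq_one_of_odd hn h2 (congrArg Subtype.val hk)
    rw [hzdef, mul_inv_eq_one, mul_inv_eq_iff_eq_mul] at h3
    exact h3
  have htL := hK t htN htW
  have htO : t ∈ o2 L := by
    refine mem_of_sq hn htn ?_
    rw [← hsq]
    have h1 := (mem_normalizer_iff.mp (le_normalizer_o2 L (inv_mem htL)) y).mp hyO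
    rw [inv_inv] at h1
    exact mul_mem h1 (inv_mem hyO)
  obtain ⟨k, hk⟩ := o2_isPGroup L ⟨t, htO⟩
  exact ht1 (eq_one_of_odd hn htn (congrArg Subtype.val hk))

end lemT

/-! ### `Ω₁(Z(O₂(P)))` -/

variable [Finite G] {S : Sylow 2 G} {P : Subgroup G} {m : ℕ} {A : Subgroup G}
  {ε : (Fin (2 ^ m + 1) → ZMod 2) → G}

section
variable (h : Sit S P m A ε)
include h

theorem _root_.Cfsg.Agent.Omega.F4Leaf.Pos.Sit.mem_o2_of {s : G} (hs : s ∈ (S : Subgroup G))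
    (hsA : s ∈ centralizer (A : Set G)) : s ∈ o2 P := by
  rw [← h.par.inf_centralizer S h.c2]
  refine ⟨hs, mem_centralizer_iff.mpr fun v hv => ?_⟩
  obtain ⟨c, hc, a, ha, rfl⟩ := h.mul_eq hv
  have h1 := mem_centralizer_iff.mp hsA a ha
  calc c * a * s = c * (a * s) := by group
    _ = c * s * a := by rw [h1, mul_assoc]
    _ = s * (c * a) := by rw [← h.V0_comm hc (h.par.le hs), mul_assoc]

theorem _root_.Cfsg.Agent.Omega.F4Leaf.Pos.Sit.o2_le_S : o2 P ≤ (S : Subgroup G) := by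
  rw [← h.par.inf_centralizer S h.c2]
  exact inf_le_left

/-- `C_G(O₂(P)) ≤ O₂(P)` -/
theorem _root_.Cfsg.Agent.Omega.F4Leaf.Pos.Sit.mem_o2_of_cent {g : G} (hg : ∀ q ∈ o2 P, g * q = q * g) :
    g ∈ o2 P := by
  have h1 := h.par.isLoc.normalizer_o2 S
  have h2 : o2 (normalizer (o2 P : Set G)) ≤ o2 P := o2_le_o2 S h.par.le (le_normalizer_o2 P)
  have h3 : g ∈ centralizer (o2 P : Set G) := mem_centralizer_iff.mpr fun q hq => (hg q hq).symm
  have h4 : g ∈ centralizer (o2 (normalizer (o2 P : Set G)) : Set G) :=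
    mem_centralizer_iff.mpr fun q hq => (hg q (h2 hq)).symm
  exact h2 (h1.char2 S h.c2 ⟨centralizer_le_normalizer _ h3, h4⟩)

theorem _root_.Cfsg.Agent.Omega.F4Leaf.Pos.Sit.V_le_zc : zl (S : Subgroup G) P ≤ zc (o2 P) :=
  h.par.isLoc.zl_le S h.c2

theorem _root_.Cfsg.Agent.Omega.F4Leaf.Pos.Sit.big :
    App.Big (S : Subgroup G) P (cv (S : Subgroup G) P) A (zc (o2 P)) ε where
  ev := h.split.even
  fix0 := h.split.fix0
  le := h.par.le
  comm y hy y' hy' := (mem_zc.mp hy').2.1 y (mem_zc.mp hy).1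
  sq y hy := by rw [← pow_two]; exact (mem_zc.mp hy).2.2
  ge := h.split.A_le.trans h.V_le_zc
  nrm g hg y hy := (mem_normalizer_iff.mp
    (MinSimple.VModule.normalizer_le_normalizer_zc _ (le_normalizer_o2 P hg)) y).mp hy
  syl s hs hsA := by
    rw [mem_centralizer_iff]
    intro y hy
    exact ((mem_zc.mp hy).2.1 s (h.mem_o2_of hs hsA)).symm
  cz _ hv _ hg := h.V0_comm hv hg
  fixed y hy hys := by
    have h1 : y ∈ zc (S : Subgroup G) := mem_zc.mpr ⟨h.o2_le_S (mem_zc.mp hy).1, hys, (mem_zc.mp hy).2.2⟩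
    rcases h.split.zc_mul h.c2 h.par (by have := h.m2; omega) h1 with h2 | h2
    · exact ⟨y, h2, Or.inl rfl⟩
    · refine ⟨_, h2, Or.inr ?_⟩
      rw [mul_assoc, h.split.even.sq, mul_one]

/-- an element of `P` centralising `A` centralises `Ω₁(Z(O₂(P)))` -/
theorem _root_.Cfsg.Agent.Omega.F4Leaf.Pos.Sit.comm_of {g y : G} (hg : g ∈ P) (hA : g ∈ centralizer (A : Set G))
    (hy : y ∈ zc (o2 P)) : g * y = y * g :=
  (mem_centralizer_iff.mp (h.big.cen h.hS2 S.isPGroup' hg hA) y hy).symm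

theorem _root_.Cfsg.Agent.Omega.F4Leaf.Pos.Sit.act_eq {g k y : G} (hg : g ∈ P) (hk : k ∈ P)
    {σ : Equiv.Perm (Fin (2 ^ m + 1))} (hgσ : Acts ε g σ) (hkσ : Acts ε k σ) (hy : y ∈ zc (o2 P)) :
    g * y * g⁻¹ = k * y * k⁻¹ :=
  h.big.act_eq h.hS2 S.isPGroup' hg hk hgσ hkσ hy

/-- `Ω₁(Z(O₂(P))) ≤ O₂(N_G(A))` -/
theorem _root_.Cfsg.Agent.Omega.F4Leaf.Pos.Sit.zc_le_o2 : zc (o2 P) ≤ o2 (normalizer (A : Set G)) := by
  intro y hy
  have hE := h.split.even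
  have hA1 : A ≠ ⊥ := by
    intro h0
    have h1 := rr_mem hE 0 (Fin.last _)
    rw [h0, mem_bot] at h1
    refine rr_ne_one hE h.three (fun h2 => ?_) h1
    have h3 := congrArg Fin.val h2
    have h4 : 0 < 2 ^ m := Nat.two_pow_pos m
    simp only [Fin.val_last] at h3
    change 0 = 2 ^ m at h3
    omega
  have h2 : o2 (normalizer (A : Set G)) ≤ o2 P := o2_le_o2 S h.par.le hE.le_normalizer
  have hyA : y ∈ centralizer (A : Set G) := mem_centralizer_iff.mpr fun a ha =>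
    (mem_zc.mp hy).2.1 a (zc_le _ (h.big.ge ha))
  exact MinSimple.Basic.char2_normalizer h.c2 hE.isPGroup hA1
    ⟨centralizer_le_normalizer _ hyA, mem_centralizer_iff.mpr fun q hq => (mem_zc.mp hy).2.1 q (h2 hq)⟩

/-- **`Ω₁(Z(O₂(P))) ≤ O₂(C_G(r_ij))`** -/
theorem _root_.Cfsg.Agent.Omega.F4Leaf.Pos.Sit.omega_le {i j : Fin (2 ^ m + 1)} (hij : i ≠ j) :
    zc (o2 P) ≤ o2 (NN ε i j) := by
  intro y hy
  have hE := h.split.even
  have hQP := h.o2_le_P hij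
  have hWQ : WP ε i j ≤ o2 (NN ε i j) := h.fac.ww h.c2 h.three hij
  have hA : A ≤ WP ε i j := fun _ ha => h.fac.mem_wp hij ha
  have hyy : y * y = 1 := h.big.sq y hy
  have hyi : y⁻¹ = y := inv_eq_of_mul_eq_one_left hyy
  have hyN : y ∈ NN ε i j := by
    rw [mem_NN]
    exact (h.big.comm y hy _ (h.big.ge (rr_mem hE i j)))
  have hcd : ∀ q ∈ o2 (NN ε i j), Acts ε q 1 → ∀ x ∈ zc (o2 P), q * x = x * q := fun q hq h1 x hx =>
    h.comm_of (hQP hq) (hE.acts_one_iff.mp h1) hx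
  refine mem_o2 (L := normalizer (A : Set G)) (W := WP ε i j) (Z := WP ε i j ⊓ centralizer (o2 (NN ε i j) : Set G))
    (fun g hg w hw => WP_norm hg hw) ?_ ?_ ?_ hyy hyN (h.zc_le_o2 hy) ?_ ?_
  · rintro g hg z ⟨hz, hz'⟩
    have h1 := NSix.End.Six.norm_cen _ (le_normalizer_o2 _ hg)
    exact ⟨WP_norm hg hz, (mem_normalizer_iff.mp h1 _).mp hz'⟩
  · exact (o2_isPGroup (NN ε i j)).to_le (inf_le_left.trans hWQ)
  · intro g _ hgW
    refine centralizer_le_normalizer _ (mem_centralizer_iff.mpr fun a ha => (hgW a (hA ha)).symm)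
  · rintro z ⟨hz, hz'⟩
    have h1 : z ∈ centralizer (A : Set G) := mem_centralizer_iff.mpr fun a ha =>
      mem_centralizer_iff.mp hz' a (hWQ (hA ha))
    exact (h.comm_of (hQP (hWQ hz)) h1 hy).symm
  · intro w hw
    have hwQ := hWQ hw
    have hwP := hQP hwQ
    have hwy : w * y * w⁻¹ ∈ zc (o2 P) := h.big.nrm w hwP y hy
    have e1 : y * w * y⁻¹ * w⁻¹ = y * (w * y * w⁻¹) := by
      rw [hyi]
      group
    refine ⟨(WP ε i j).mul_mem (WP_norm hyN hw) ((WP ε i j).inv_mem hw), mem_centralizer_iff.mpr fun q hq => ?_⟩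
    rw [e1]
    have heY : y * (w * y * w⁻¹) ∈ zc (o2 P) := mul_mem hy hwy
    rcases h.acts hij hq with h1 | h1
    · exact hcd q hq h1 _ heY
    · rcases h.acts hij hwQ with h2 | h2
      · have h3 : w * y * w⁻¹ = y := by rw [hcd w hwQ h2 y hy, mul_inv_cancel_right]
        rw [h3, hyy, one_mul, mul_one]
      · have h3 := h.act_eq (hQP hq) hwP h1 h2 heY
        have h4 : Acts ε (w * w) 1 := by
          have h5 := h2.mul h2
          rwa [Equiv.swap_mul_self] at h5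
        have h5 := hcd (w * w) (mul_mem hwQ hwQ) h4 y hy
        have h6 : w * (y * (w * y * w⁻¹)) * w⁻¹ = y * (w * y * w⁻¹) := by
          calc w * (y * (w * y * w⁻¹)) * w⁻¹ = w * y * w⁻¹ * (w * w * y) * (w * w)⁻¹ := by group
            _ = w * y * w⁻¹ * (y * (w * w)) * (w * w)⁻¹ := by rw [h5]
            _ = w * y * w⁻¹ * y := by group
            _ = y * (w * y * w⁻¹) := h.big.comm _ hwy _ hy
        rw [h6] at h3
        exact mul_inv_eq_iff_eq_mul.mp h3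

/-- the transpositions for all pairs -/
theorem _root_.Cfsg.Agent.Omega.F4Leaf.Pos.Sit.mov
    (hN : ∃ i j, i ≠ j ∧ ∃ g ∈ WP ε i j, ¬ g ∈ centralizer (A : Set G)) {i j : Fin (2 ^ m + 1)} (hij : i ≠ j) :
    ∃ w ∈ WP ε i j, Acts ε w (Equiv.swap i j) := by
  have hE := h.split.even
  obtain ⟨i0, j0, hij0, g, hg, hgV⟩ := hN
  have hgs : Acts ε g (Equiv.swap i0 j0) :=
    (h.acts hij0 (h.fac.ww h.c2 h.three hij0 hg)).resolve_left fun h1 => hgV (hE.acts_one_iff.mp h1)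
  obtain ⟨σ, h1, h2, -⟩ := exists_perm hij0 hij
  obtain ⟨p, -, hp⟩ := hE.full σ
  refine ⟨p * g * p⁻¹, ?_, ?_⟩
  · have := WP_conj hp hg
    rwa [h1, h2] at this
  · have h3 := hp.conj hgs
    have h4 : σ * Equiv.swap i0 j0 * σ⁻¹ = Equiv.swap i j := by
      rw [← Equiv.swap_apply_apply, h1, h2]
    rwa [h4] at h3

/-- an element of `Ω₁(Z(O₂(P)))` centralised by elements inducing the transpositions `(a 0)` is in `V` -/
theorem _root_.Cfsg.Agent.Omega.F4Leaf.Pos.Sit.mem_of_star {y : G} (hy : y ∈ zc (o2 P))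
    (hs : ∀ a : Fin (2 ^ m + 1), a ≠ 0 → ∃ w ∈ P, Acts ε w (Equiv.swap a 0) ∧ w * y = y * w) :
    y ∈ zl (S : Subgroup G) P := by
  have hE := h.split.even
  -- the permutations induced by elements of `C_P(y)`
  let H : Subgroup (Equiv.Perm (Fin (2 ^ m + 1))) :=
    { carrier := {σ | ∃ w ∈ P, Acts ε w σ ∧ w * y = y * w}
      one_mem' := ⟨1, one_mem _, Acts.one, by rw [one_mul, mul_one]⟩
      mul_mem' := by
        rintro a b ⟨w, hw, hw1, hw2⟩ ⟨v, hv, hv1, hv2⟩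
        exact ⟨w * v, mul_mem hw hv, hw1.mul hv1, by rw [mul_assoc, hv2, ← mul_assoc, hw2, mul_assoc]⟩
      inv_mem' := by
        rintro a ⟨w, hw, hw1, hw2⟩
        refine ⟨w⁻¹, inv_mem hw, hw1.inv, ?_⟩
        rw [inv_mul_eq_iff_eq_mul, ← mul_assoc, hw2, mul_inv_cancel_right] }
  have h0 : ∀ a : Fin (2 ^ m + 1), a ≠ 0 → Equiv.swap a 0 ∈ H := hs
  have hsw : ∀ a b : Fin (2 ^ m + 1), a ≠ b → Equiv.swap a b ∈ H := by
    intro a b hab
    by_cases ha : a = 0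
    · subst ha
      rw [Equiv.swap_comm]
      exact h0 b hab.symm
    by_cases hb : b = 0
    · subst hb
      exact h0 a ha
    have h1 : Equiv.swap a 0 * Equiv.swap b 0 * (Equiv.swap a 0)⁻¹ = Equiv.swap a b := by
      rw [← Equiv.swap_apply_apply, Equiv.swap_apply_right, Equiv.swap_apply_of_ne_of_ne hab.symm hb,
        Equiv.swap_comm]
    rw [← h1]
    exact mul_mem (mul_mem (h0 a ha) (h0 b hb)) (inv_mem (h0 a ha))
  have hH : H = ⊤ := by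
    rw [eq_top_iff, ← Equiv.Perm.closure_isSwap, closure_le]
    rintro _ ⟨a, b, hab, rfl⟩
    exact hsw a b hab
  have hyS : ∀ s ∈ (S : Subgroup G), s * y = y * s := by
    intro s hs'
    obtain ⟨σ, hσ⟩ := hE.perm s (h.par.le hs')
    obtain ⟨w, hw, hw1, hw2⟩ : σ ∈ H := hH ▸ mem_top σ
    have h1 := h.act_eq (h.par.le hs') hw hσ hw1 hy
    rw [hw2, mul_inv_cancel_right] at h1
    exact mul_inv_eq_iff_eq_mul.mp h1
  obtain ⟨v, hv, h1 | h1⟩ := h.big.fixed y hy hyS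
  · rw [h1]
    exact h.V0_le hv
  · rw [h1]
    exact mul_mem (h.V0_le hv) (h.split.A_le (hE.mem _))

/-- **`Ω₁(Z(O₂(P))) = V`, any `V₀`** -/
theorem _root_.Cfsg.Agent.Omega.F4Leaf.Pos.Sit.omega_one
    (hN : ∃ i j, i ≠ j ∧ ∃ g ∈ WP ε i j, ¬ g ∈ centralizer (A : Set G)) :
    zc (o2 P) = zl (S : Subgroup G) P := by
  classical
  refine le_antisymm (fun y hy => ?_) h.V_le_zc
  have hE := h.split.even
  have hmov := fun (a : Fin (2 ^ m + 1)) (ha : a ≠ 0) => h.mov hN ha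
  choose w hw hws using hmov
  have hwQ : ∀ a ha, w a ha ∈ o2 (NN ε a 0) := fun a ha => h.fac.ww h.c2 h.three ha (hw a ha)
  let x : Fin (2 ^ m + 1) → ZMod 2 := fun a => if ha : a ≠ 0 then (if w a ha * y * (w a ha)⁻¹ = y then 0 else 1) else 0
  have hx0 : x 0 = 0 := dif_neg fun h1 => h1 rfl
  have hxa : ∀ a (ha : a ≠ 0), x a = if w a ha * y * (w a ha)⁻¹ = y then 0 else 1 := fun a ha => dif_pos ha
  have hxV : ε x ∈ zc (o2 P) := h.big.ge (hE.mem x)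
  have key : y * ε x ∈ zl (S : Subgroup G) P := by
    refine h.mem_of_star (mul_mem hy hxV) fun a ha => ⟨w a ha, h.o2_le_P ha (hwQ a ha), hws a ha, ?_⟩
    have h1 := h.fac.wp_conj (h.omega_le ha hy) (hw a ha)
    have h2 : w a ha * ε x * (w a ha)⁻¹ = ε (x ∘ (Equiv.swap a 0).symm) := hws a ha x
    rw [NSix.OmegaOne.comp_swap ha] at h2
    rw [← mul_inv_eq_iff_eq_mul]
    have e : w a ha * (y * ε x) * (w a ha)⁻¹ = w a ha * y * (w a ha)⁻¹ * (w a ha * ε x * (w a ha)⁻¹) := by group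
    rw [e, h2, hx0, add_zero, hxa a ha]
    by_cases h3 : w a ha * y * (w a ha)⁻¹ = y
    · rw [if_pos h3, zero_smul, add_zero, h3]
    · have h4 := h1.resolve_left h3
      rw [if_neg h3, one_smul, h4, hE.add, hE.add]
      have hr : rr ε a 0 ∈ zc (o2 P) := h.big.ge (rr_mem hE a 0)
      change y * rr ε a 0 * (ε x * rr ε a 0) = y * ε x
      rw [mul_assoc, ← mul_assoc (rr ε a 0), h.big.comm _ hr _ hxV, mul_assoc (ε x), rr_sq hE, mul_one]
  have h1 : y = y * ε x * ε x := by rw [mul_assoc, hE.sq, mul_one]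
  rw [h1]
  exact mul_mem key (h.split.A_le (hE.mem x))

/-- `Ω₁(Z(T)) ≤ V` for `O₂(P) ≤ T ≤ S` -/
theorem _root_.Cfsg.Agent.Omega.F4Leaf.Pos.Sit.zc_le_V
    (hN : ∃ i j, i ≠ j ∧ ∃ g ∈ WP ε i j, ¬ g ∈ centralizer (A : Set G)) {T : Subgroup G} (hT : o2 P ≤ T) :
    zc T ≤ zl (S : Subgroup G) P := by
  intro y hy
  rw [← h.omega_one hN]
  obtain ⟨-, h2, h3⟩ := mem_zc.mp hy
  have h4 : ∀ q ∈ o2 P, q * y = y * q := fun q hq => h2 q (hT hq)
  exact mem_zc.mpr ⟨h.mem_o2_of_cent fun q hq => (h4 q hq).symm, h4, h3⟩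

end

end Cfsg.Agent.Omega.F4Leaf.Big.OneZ
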